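import Mathlib
import Cfsg.Prelude.Def_LieTypeDatum
import Cfsg.Agent.H206.PspFix
import Cfsg.Agent.H206.Balance
import Cfsg.Agent.LieClassical.SpFourTwo
import Cfsg.Agent.S0270
set_option linter.all false

/-!
# The field automorphisms of `PSp` of prime order are good (helper206)

`good_phi` : for `σ` of prime order `p` different from the characteristic, `Balance.Good p (phi m F σ)`.
-/

set_option autoImplicit false

namespace Cfsg.Agent.H206.PspBal

open Cfsg
open scoped Matrix
open Cfsg.Agent.ClassicalGeometry.SympBasic Cfsg.Agent.ClassicalGeometry.SympAutSemi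
  Cfsg.Agent.ClassicalGeometry.SympGamma Cfsg.Agent.ClassicalGeometry.SympAutExists
open Cfsg.Agent.H206.PspFix Cfsg.Agent.H206.Balance

universe u v

variable {F : Type u} [Field F] {F₀ : Type v} [Field F₀] {m : ℕ}

theorem J_map (j : F₀ →+* F) : (Matrix.J (Fin m) F₀).map j = Matrix.J (Fin m) F := by
  unfold Matrix.J
  rw [Matrix.fromBlocks_map]
  congr 1
  · exact Matrix.map_zero _ (map_zero j)
  · ext a b
    rw [Matrix.map_apply, Matrix.neg_apply, Matrix.neg_apply, map_neg, Matrix.one_apply, Matrix.one_apply]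
    split_ifs
    · rw [map_one]
    · rw [map_zero]
  · exact Matrix.map_one _ (map_zero j) (map_one j)
  · exact Matrix.map_zero _ (map_zero j)

theorem map_mem_iff (j : F₀ →+* F) (A : Matrix (Fin m ⊕ Fin m) (Fin m ⊕ Fin m) F₀) :
    A.map j ∈ Matrix.symplecticGroup (Fin m) F ↔ A ∈ Matrix.symplecticGroup (Fin m) F₀ := by
  rw [SymplecticGroup.mem_iff, SymplecticGroup.mem_iff, ← J_map j, ← Matrix.transpose_map, ← Matrix.map_mul,
    ← Matrix.map_mul]
  exact (Matrix.map_injective j.injective).eq_iff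

/-- The entrywise map on symplectic groups. -/
def mapSp (m : ℕ) (j : F₀ →+* F) : Matrix.symplecticGroup (Fin m) F₀ →* Matrix.symplecticGroup (Fin m) F where
  toFun A := ⟨A.1.map j, (map_mem_iff j _).2 A.2⟩
  map_one' := Subtype.ext (Matrix.map_one _ (map_zero j) (map_one j))
  map_mul' A B := Subtype.ext (by
    change (A.1 * B.1).map j = _
    rw [Matrix.map_mul]
    rfl)

theorem coe_mapSp (j : F₀ →+* F) (A : Matrix.symplecticGroup (Fin m) F₀) : (mapSp m j A).1 = A.1.map j := rfl

theorem mapSp_injective (j : F₀ →+* F) : Function.Injective (mapSp m j) := by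
  intro A B h
  apply Subtype.ext
  exact Matrix.map_injective j.injective (congrArg Subtype.val h)

theorem mem_range_mapSp {σ : F ≃+* F} {j : F₀ →+* F} (hj : ∀ a, σ a = a ↔ ∃ b, j b = a)
    {s : Matrix.symplecticGroup (Fin m) F} :
    s ∈ (mapSp m j).range ↔ mapSp m (σ : F →+* F) s = s := by
  constructor
  · rintro ⟨A, rfl⟩
    apply Subtype.ext
    ext a b
    exact (hj _).2 ⟨A.1 a b, rfl⟩
  · intro h
    obtain ⟨A₀, hA₀⟩ := H202.Descent.exists_descend_matrix (σ := σ) hj (A := s.1) (congrArg Subtype.val h)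
    exact ⟨⟨A₀, (map_mem_iff j _).1 (hA₀ ▸ s.2)⟩, Subtype.ext hA₀⟩

theorem phi_mk (σ : F ≃+* F) (s : Matrix.symplecticGroup (Fin m) F) :
    phi m F σ (QuotientGroup.mk s) = QuotientGroup.mk (mapSp m (σ : F →+* F) s) :=
  (H966.PSpAut.eq_Psi_frob.2 rfl : IsStdFieldAutPSp σ (phi m F σ)) s _ rfl

/-- The subfield subgroup: the map. -/
def psi (m : ℕ) (j : F₀ →+* F) : Matrix.symplecticGroup (Fin m) F₀ →* PSp m F :=
  (QuotientGroup.mk' _).comp (mapSp m j)

theorem psi_apply (j : F₀ →+* F) (A : Matrix.symplecticGroup (Fin m) F₀) :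
    psi m j A = QuotientGroup.mk (mapSp m j A) := rfl

theorem ker_psi (j : F₀ →+* F) (hm : 1 ≤ m) : (psi m j).ker = Subgroup.center _ := by
  ext A
  rw [MonoidHom.mem_ker, psi_apply, QuotientGroup.eq_one_iff, LieClassical.SympCenter.mem_center_iff,
    LieClassical.SympCenter.mem_center_iff, coe_mapSp]
  let i0 : Fin m ⊕ Fin m := Sum.inl ⟨0, hm⟩
  constructor
  · rintro ⟨a, ha⟩
    refine ⟨A.1 i0 i0, ?_⟩
    have h1 := fun i k => congrFun (congrFun ha i) k
    simp only [Matrix.map_apply, Matrix.smul_apply, smul_eq_mul] at h1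
    ext i k
    apply j.injective
    rw [h1, Matrix.smul_apply, smul_eq_mul, map_mul, h1, Matrix.one_apply_eq, mul_one]
    congr 1
    rw [Matrix.one_apply, Matrix.one_apply]
    split_ifs
    · exact (map_one j).symm
    · exact (map_zero j).symm
  · rintro ⟨b, hb⟩
    refine ⟨j b, ?_⟩
    rw [hb]
    ext i k
    rw [Matrix.map_apply, Matrix.smul_apply, Matrix.smul_apply, smul_eq_mul, smul_eq_mul, map_mul,
      Matrix.one_apply, Matrix.one_apply]
    split_ifs
    · rw [map_one]
    · rw [map_zero]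

theorem transv_map (σ : F ≃+* F) (v : Fin m ⊕ Fin m → F) (c : F) :
    mapSp m (σ : F →+* F) (transv v c) = transv (fun i => σ (v i)) (σ c) := by
  have h : phi m F σ (QuotientGroup.mk (transv v c)) = QuotientGroup.mk (transv (fun i => σ (v i)) (σ c)) := by
    change Psi m F (frobHom m F σ) _ = _
    rw [Psi_mk, conjHom_transv (frobHom m F σ) one_ne_zero (isSemi_frobPerm σ), inv_one, mul_one]
    rfl
  apply rho_injective
  ext1 x
  have h1 : rho m F (mapSp m (σ : F →+* F) (transv v c)) x = (transv v c).1.map σ *ᵥ x := rfl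
  rw [h1]
  obtain ⟨y, rfl⟩ : ∃ y : Fin m ⊕ Fin m → F, (fun i => σ (y i)) = x :=
    ⟨fun i => σ.symm (x i), funext fun i => σ.apply_symm_apply _⟩
  rw [H966.PSpAut.map_mulVec, rho_transv]
  have h2 : (transv v c).1 *ᵥ y = y + (c * sympForm m F y v) • v := by
    rw [coe_transv, sympTransvection_mulVec]
  rw [h2]
  have h3 : sympForm m F (fun i => σ (y i)) (fun i => σ (v i)) = σ (sympForm m F y v) := by
    have := (isSemi_frobPerm (m := m) σ).2.2 y v
    rw [one_mul] at this
    exact this
  rw [h3]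
  funext i
  simp [map_add, map_mul]

/-- Elements of `Perm (Fin 6)`. -/
theorem perm_six {R : Type*} [Group R] (e : R ≃* Equiv.Perm (Fin 6)) {p : ℕ} (hp : p.Prime) (hp2 : p ≠ 2)
    (hd : p ∣ Nat.card R) (N : Subgroup R) (hN : N.Normal) (hc : (Nat.card N).Coprime p) : N = ⊥ := by
  by_contra hne
  have h1 : (N.map e.toMonoidHom).Normal := hN.map _ e.surjective
  have h2 : N.map e.toMonoidHom ≠ ⊥ := by
    intro h
    exact hne ((Subgroup.map_eq_bot_iff_of_injective _ e.injective).1 h)
  have h3 : alternatingGroup (Fin 6) ≤ N.map e.toMonoidHom := by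
    have : Nontrivial (N.map e.toMonoidHom) := (Subgroup.nontrivial_iff_ne_bot _).2 h2
    exact Equiv.Perm.alternatingGroup_le_of_normal (by rw [Nat.card_eq_fintype_card, Fintype.card_fin]; omega) this
  have h4 : Nat.card (N.map e.toMonoidHom) = Nat.card N :=
    (Nat.card_congr (N.equivMapOfInjective _ e.injective).toEquiv).symm
  have h5 : Nat.card (alternatingGroup (Fin 6)) = 360 := by
    rw [nat_card_alternatingGroup, Nat.card_eq_fintype_card, Fintype.card_fin]
    decide
  have h6 : Nat.card R = 720 := by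
    rw [Nat.card_congr e.toEquiv, Nat.card_eq_fintype_card, Fintype.card_perm]
    simp [Nat.factorial]
  have h7 : 360 ∣ Nat.card N := by
    rw [← h4, ← h5]
    exact Subgroup.card_dvd_of_le h3
  rw [h6, show 720 = 2 * 360 from rfl, hp.dvd_mul] at hd
  rcases hd with hd | hd
  · exact hp2 ((Nat.prime_dvd_prime_iff_eq hp Nat.prime_two).1 hd)
  · have h8 : p ∣ Nat.card N := hd.trans h7
    have := Nat.Coprime.eq_one_of_dvd hc.symm h8
    exact hp.one_lt.ne' this

/-- Normal `p'`-subgroups of the image of `Sp`. -/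
theorem normal_eq_bot [Finite F₀] {X : Type*} [Group X] {p : ℕ} (hp : p.Prime) (hpF : (p : F₀) ≠ 0) (hm : 2 ≤ m)
    (ψ : Matrix.symplecticGroup (Fin m) F₀ →* X) (hker : ψ.ker = Subgroup.center _)
    (hdvd : p ∣ Nat.card ψ.range) (M : Subgroup X) (hM : M ≤ ψ.range)
    (hMn : ∀ k ∈ ψ.range, ∀ a ∈ M, k * a * k⁻¹ ∈ M) (hMc : (Nat.card M).Coprime p) : M = ⊥ := by
  have : Fintype F₀ := Fintype.ofFinite F₀
  have hnor : (M.subgroupOf ψ.range).Normal := by
    refine ⟨fun a ha k => ?_⟩
    rw [Subgroup.mem_subgroupOf] at ha ⊢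
    exact hMn k k.2 a ha
  have hcard : Nat.card (M.subgroupOf ψ.range) = Nat.card M :=
    Nat.card_congr (Subgroup.subgroupOfEquivOfLe hM).toEquiv
  have hfin : Finite (Matrix.symplecticGroup (Fin m) F₀) := Subtype.finite
  have key : M.subgroupOf ψ.range = ⊥ → M = ⊥ := by
    intro h
    rw [eq_bot_iff]
    intro a ha
    have h1 : (⟨a, hM ha⟩ : ψ.range) ∈ M.subgroupOf ψ.range := Subgroup.mem_subgroupOf.2 ha
    rw [h, Subgroup.mem_bot] at h1
    rw [Subgroup.mem_bot]
    exact congrArg Subtype.val h1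
  apply key
  by_cases hs : m = 2 → 3 ≤ Fintype.card F₀
  · have hsimp := S0270.result (F := F₀) m hm hs
    let e : PSp m F₀ ≃* ψ.range :=
      (QuotientGroup.quotientMulEquivOfEq hker.symm).trans (QuotientGroup.quotientKerEquivRange ψ)
    have hsimp' : IsSimpleGroup ψ.range := e.symm.isSimpleGroup
    rcases hsimp'.eq_bot_or_eq_top_of_normal _ hnor with h | h
    · exact h
    · exfalso
      rw [h, Subgroup.card_top] at hcard
      rw [← hcard] at hMc
      exact hp.one_lt.ne' (Nat.Coprime.eq_one_of_dvd hMc.symm hdvd)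
  · push Not at hs
    obtain ⟨rfl, hs⟩ := hs
    have hc2 : Fintype.card F₀ = 2 := by
      have := Fintype.one_lt_card (α := F₀)
      omega
    obtain ⟨e⟩ := LieClassical.SpFourTwo.nonempty_equiv_perm hc2
    have h2 : (2 : F₀) = 0 := by
      have := Nat.cast_card_eq_zero F₀
      rw [hc2] at this
      exact_mod_cast this
    have hker' : ψ.ker = ⊥ := by
      rw [hker, eq_bot_iff]
      intro z hz
      obtain ⟨a, ha⟩ := (LieClassical.SympCenter.mem_center_iff 2 z).1 hz
      have h3 := LieClassical.SympCenter.sq_eq_one_of_smul_mem (F := F₀) (m := 2) (by omega) (ha ▸ z.2)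
      have h4 : a = 1 := by
        have h5 : (a - 1) * (a - 1) = 0 := by linear_combination h3 + (1 - a) * h2
        have := mul_self_eq_zero.1 h5
        exact sub_eq_zero.1 this
      rw [Subgroup.mem_bot]
      apply Subtype.ext
      rw [ha, h4, one_smul]
      rfl
    let e' : ψ.range ≃* Equiv.Perm (Fin 6) := (MonoidHom.ofInjective ((MonoidHom.ker_eq_bot_iff ψ).1 hker')).symm.trans e
    refine perm_six e' hp ?_ hdvd _ hnor (by rwa [hcard])
    rintro rfl
    exact hpF (by exact_mod_cast h2)

/-- `2` divides the order of the image of `Sp`. -/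
theorem two_dvd [Finite F₀] {X : Type*} [Group X] (hm : 1 ≤ m)
    (ψ : Matrix.symplecticGroup (Fin m) F₀ →* X) (hker : ψ.ker = Subgroup.center _) :
    2 ∣ Nat.card ψ.range := by
  have hfin : Finite (Matrix.symplecticGroup (Fin m) F₀) := Subtype.finite
  let J0 : Matrix.symplecticGroup (Fin m) F₀ := ⟨Matrix.J (Fin m) F₀, SymplecticGroup.J_mem (Fin m) F₀⟩
  have h3 : ψ J0 ^ 2 = 1 := by
    rw [← map_pow, ← MonoidHom.mem_ker, hker, LieClassical.SympCenter.mem_center_iff]
    refine ⟨-1, ?_⟩
    change (Matrix.J (Fin m) F₀) ^ 2 = _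
    rw [pow_two, Matrix.J_squared, neg_one_smul]
  have h4 : ψ J0 ≠ 1 := by
    rw [Ne, ← MonoidHom.mem_ker, hker, LieClassical.SympCenter.mem_center_iff]
    rintro ⟨a, ha⟩
    have h5 : (Matrix.J (Fin m) F₀) (Sum.inr ⟨0, hm⟩) (Sum.inl ⟨0, hm⟩) = a * 0 := by
      have := congrFun (congrFun ha (Sum.inr ⟨0, hm⟩)) (Sum.inl ⟨0, hm⟩)
      rw [Matrix.smul_apply, Matrix.one_apply_ne (by simp)] at this
      exact this
    simp [Matrix.J] at h5
  have h5 : orderOf (⟨ψ J0, ⟨J0, rfl⟩⟩ : ψ.range) = 2 := by
    apply orderOf_eq_prime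
    · apply Subtype.ext
      exact h3
    · intro h
      exact h4 (congrArg Subtype.val h)
  rw [← h5]
  exact orderOf_dvd_natCard _

/-- **Field automorphisms of prime order are good.** -/
theorem good_phi [Finite F] (hm : 2 ≤ m) {p : ℕ} (hp : p.Prime) (hpF : (p : F) ≠ 0) {σ : F ≃+* F}
    (hσ : orderOf σ = p) : Good p (phi m F σ) := by
  have hm1 : 1 ≤ m := by omega
  let K₀ := H966.Frob.fix σ
  let j : K₀ →+* F := K₀.subtype
  have hj : ∀ a, σ a = a ↔ ∃ b, j b = a := by
    intro a
    constructor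
    · intro h
      exact ⟨⟨a, h⟩, rfl⟩
    · rintro ⟨b, rfl⟩
      exact b.2
  have hpF₀ : (p : K₀) ≠ 0 := by
    intro h
    apply hpF
    have := congrArg j h
    rwa [map_natCast, map_zero] at this
  have hfin : Finite K₀ := Subtype.finite
  have hker := ker_psi (m := m) j hm1
  obtain ⟨ℓ, hℓ⟩ := CharP.exists F
  have hℓp : Fact ℓ.Prime := ⟨CharP.char_is_prime F ℓ⟩
  have htr : ∀ v : Fin m ⊕ Fin m → F, (∀ i, σ (v i) = v i) → ∀ c, σ c = c → pr (transv v c) ∈ (psi m j).range := by
    intro v hv c hc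
    obtain ⟨A, hA⟩ := (mem_range_mapSp hj (s := transv v c)).2 (by
      rw [transv_map, hc]
      congr 1
      funext i
      exact hv i)
    exact ⟨A, by rw [psi_apply, hA]; rfl⟩
  have hLfix : (psi m j).range ≤ Fx (phi m F σ) := by
    rintro _ ⟨A, rfl⟩
    rw [mem_Fx, psi_apply, phi_mk, (mem_range_mapSp hj).1 ⟨A, rfl⟩]
  refine ⟨(psi m j).range, ?_, hLfix, ?_, ?_, ?_⟩
  · intro h
    let i0 : Fin m ⊕ Fin m := Sum.inl ⟨0, hm1⟩
    have h1 := htr (Pi.single i0 1) (fun k => by
      by_cases hk : k = i0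
      · subst hk; simp
      · rw [Pi.single_eq_of_ne hk, map_zero]) 1 (map_one σ)
    rw [h, Subgroup.mem_bot] at h1
    exact pr_transv_ne_one ℓ hm1 (fun h0 => by
      have := congrFun h0 i0
      rw [Pi.single_eq_same] at this
      exact one_ne_zero this) one_ne_zero h1
  · rintro c hc _ ⟨A, rfl⟩
    obtain ⟨s, rfl⟩ := QuotientGroup.mk_surjective c
    rw [mem_Fx, phi_mk, eq_comm, QuotientGroup.eq] at hc
    have h1 : s * mapSp m j A * s⁻¹ ∈ (mapSp m j).range := by
      rw [mem_range_mapSp hj, map_mul, map_mul, map_inv, (mem_range_mapSp hj).1 ⟨A, rfl⟩]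
      have h2 := Subgroup.mem_center_iff.1 hc (mapSp m j A)
      have h3 : mapSp m (σ : F →+* F) s = s * (s⁻¹ * mapSp m (σ : F →+* F) s) := by group
      rw [h3, mul_inv_rev, mul_assoc s, ← h2]
      group
    obtain ⟨B, hB⟩ := h1
    refine ⟨B, ?_⟩
    rw [psi_apply, hB]
    rfl
  · intro y hy
    exact eq_frob_of_fix hm fun v hv c hc => hy _ (htr v hv c hc)
  · intro hd M hM hMn hMc
    refine normal_eq_bot hp hpF₀ hm (psi m j) hker ?_ M hM hMn hMc
    rcases hp.eq_two_or_odd' with h2 | h2
    · subst h2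
      exact two_dvd hm1 (psi m j) hker
    · have hle : Fx (phi m F σ) ≤ (psi m j).range := by
        intro c hc
        obtain ⟨s, rfl⟩ := QuotientGroup.mk_surjective c
        rw [mem_Fx, phi_mk, eq_comm, QuotientGroup.eq] at hc
        obtain ⟨a, ha⟩ := (LieClassical.SympCenter.mem_center_iff m _).1 hc
        have haa := LieClassical.SympCenter.sq_eq_one_of_smul_mem (F := F) hm1 (ha ▸ (s⁻¹ * mapSp m (σ : F →+* F) s).2)
        have ha1 : a = 1 ∨ a = -1 := mul_self_eq_one_iff.1 haa
        -- `σ(s) = a s`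
        have h3 : s.1.map σ = a • s.1 := by
          have h4 : mapSp m (σ : F →+* F) s = s * (s⁻¹ * mapSp m (σ : F →+* F) s) := by group
          have h5 := congrArg Subtype.val h4
          change s.1.map σ = s.1 * (s⁻¹ * mapSp m (σ : F →+* F) s).1 at h5
          rw [h5, ha, mul_smul_comm, mul_one]
        have hσa : ∀ n : ℕ, (σ ^ n) a = a := by
          intro n
          rcases ha1 with rfl | rfl
          · exact map_one _
          · rw [map_neg, map_one]
        have h6 : ∀ n : ℕ, s.1.map (σ ^ n) = a ^ n • s.1 := by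
          intro n
          induction n with
          | zero => ext i k; simp
          | succ n ih =>
            ext i k
            have h7 := congrFun (congrFun h3 i) k
            have h8 := congrFun (congrFun ih i) k
            rw [Matrix.map_apply, Matrix.smul_apply, smul_eq_mul] at h7 h8 ⊢
            rw [pow_succ, RingAut.mul_apply, h7, map_mul, hσa, h8, pow_succ]
            ring
        have h7 := h6 p
        rw [← hσ, pow_orderOf_eq_one, hσ] at h7
        have h8 : a = 1 := by
          rcases ha1 with h | h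
          · exact h
          · rw [h, h2.neg_one_pow, neg_one_smul] at h7
            by_cases h2F : (2 : F) = 0
            · rw [h]
              linear_combination -h2F
            · exfalso
              have h10 : s.1 = 0 := by
                ext i k
                have h11 := congrFun (congrFun h7 i) k
                have h12 : s.1 i k = -s.1 i k := h11
                have h13 : (2 : F) * s.1 i k = 0 := by linear_combination h12
                exact (mul_eq_zero.1 h13).resolve_left h2F
              have h11 : rho m F s (Pi.single (Sum.inl ⟨0, hm1⟩) 1) = rho m F s 0 := by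
                rw [rho_apply, rho_apply, h10, Matrix.zero_mulVec, Matrix.zero_mulVec]
              have h12 := congrFun ((rho m F s).injective h11) (Sum.inl ⟨0, hm1⟩)
              rw [Pi.single_eq_same] at h12
              exact one_ne_zero h12
        rw [h8, one_smul] at h3
        obtain ⟨B, hB⟩ := (mem_range_mapSp hj (s := s)).2 (Subtype.ext h3)
        exact ⟨B, by rw [psi_apply, hB]⟩
      exact hd.trans (Subgroup.card_dvd_of_le hle)

end Cfsg.Agent.H206.PspBal
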