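import Mathlib
set_option linter.all false

/-!
# An element `u` with `u / θ u` not of `p`-power order (helper206, for S5762)

`field_kill`; `isCyclic_aut`; `exists_pow_eq` : in a finite cyclic group an element of order `p` is a power of every
element of order divisible by `p`.
-/

set_option autoImplicit false

namespace Cfsg.Agent.H206.FieldKill

theorem no_nat {p q b : ℕ} (hp : p.Prime) (h3 : 3 ≤ p) (hq : 2 ≤ q) (h : (q - 1) * p ^ b = q ^ p - 1) : False := by
  have hfact : Fact p.Prime := ⟨hp⟩
  have hgeom : (∑ i ∈ Finset.range p, q ^ i) * (q - 1) = q ^ p - 1 := geom_sum_mul_of_one_le (by omega) p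
  have hpb : p ^ b = ∑ i ∈ Finset.range p, q ^ i := by
    rw [← hgeom, mul_comm] at h
    exact Nat.eq_of_mul_eq_mul_right (by omega) h
  have hbig : p < ∑ i ∈ Finset.range p, q ^ i := by
    calc p = ∑ i ∈ Finset.range p, 1 := by simp
      _ < ∑ i ∈ Finset.range p, q ^ i := by
        apply Finset.sum_lt_sum
        · intro i _
          exact Nat.one_le_pow _ _ (by omega)
        · exact ⟨1, Finset.mem_range.2 (by omega), by rw [pow_one]; omega⟩
  have hb : 2 ≤ b := by
    by_contra hb
    have : b = 0 ∨ b = 1 := by omega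
    rcases this with rfl | rfl
    · rw [pow_zero] at hpb
      omega
    · rw [pow_one] at hpb
      omega
  have hq1 : 1 ≤ q ^ p := Nat.one_le_pow _ _ (by omega)
  -- `p` divides `q - 1`
  have hdvd : p ∣ q ^ p - 1 := by
    rw [← h]
    exact Dvd.dvd.mul_left (dvd_pow_self p (by omega)) _
  have hmod : p ∣ q - 1 := by
    have h1 : ((q : ZMod p)) ^ p = q := ZMod.pow_card _
    have h2 : ((q ^ p - 1 : ℕ) : ZMod p) = 0 := (ZMod.natCast_eq_zero_iff _ _).2 hdvd
    rw [Nat.cast_sub hq1, Nat.cast_pow, h1, ← Nat.cast_sub (by omega)] at h2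
    exact (ZMod.natCast_eq_zero_iff _ _).1 h2
  have hpq : ¬ p ∣ q := by
    intro h1
    have h2 := (Nat.dvd_sub h1 hmod)
    have h3 : q - (q - 1) = 1 := by omega
    rw [h3] at h2
    exact hp.one_lt.ne' (Nat.dvd_one.1 h2)
  have hlte := padicValNat.pow_sub_pow (p := p) (x := q) (y := 1) (hp.odd_of_ne_two (by omega)) (by omega) hmod hpq
    (n := p) (by omega)
  rw [one_pow, padicValNat_self, ← h, padicValNat.mul (by omega) (pow_ne_zero _ (by omega)),
    padicValNat.prime_pow] at hlte
  omega

/-- The automorphism group of a finite field is cyclic. -/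
theorem isCyclic_aut (F : Type*) [Field F] [Finite F] : IsCyclic (F ≃+* F) := by
  obtain ⟨p, hp⟩ := CharP.exists F
  have hprime : Fact p.Prime := ⟨CharP.char_is_prime F p⟩
  let _ : Algebra (ZMod p) F := ZMod.algebra F p
  have hcyc : IsCyclic (F ≃ₐ[ZMod p] F) := inferInstance
  let f : (F ≃ₐ[ZMod p] F) →* (F ≃+* F) :=
    { toFun := fun e => e.toRingEquiv
      map_one' := rfl
      map_mul' := fun _ _ => rfl }
  apply isCyclic_of_surjective f
  intro σ
  refine ⟨AlgEquiv.ofRingEquiv (f := σ) ?_, ?_⟩
  · intro x
    have h1 : (σ : F →+* F).comp (algebraMap (ZMod p) F) = algebraMap (ZMod p) F :=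
      Subsingleton.elim _ _
    exact RingHom.congr_fun h1 x
  · ext x
    rfl

/-- In a finite cyclic group an element of order `p` is a power of every element of order divisible by `p`. -/
theorem exists_pow_eq {G : Type*} [Group G] [Finite G] [IsCyclic G] {p : ℕ} {a b : G} (ha : orderOf a = p)
    (h : p ∣ orderOf b) : ∃ m : ℕ, b ^ m = a := by
  have hb := orderOf_pos b
  obtain ⟨m, hm⟩ := h
  have hm0 : m ≠ 0 := by
    rintro rfl
    omega
  have hp0 : 0 < p := by
    rw [← ha]
    exact orderOf_pos a
  have h1 : orderOf (b ^ m) = p := by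
    rw [orderOf_pow_of_dvd hm0 ⟨p, by rw [hm, mul_comm]⟩, hm, Nat.mul_div_cancel _ (Nat.pos_of_ne_zero hm0)]
  have h3 : a ∈ Subgroup.zpowers (b ^ m) := by
    classical
    have _ := Fintype.ofFinite G
    have h4 : (Finset.univ.filter fun x : G => x ^ p = 1).card ≤ p := IsCyclic.card_pow_eq_one_le hp0
    have h5 : (Finset.univ.filter fun x : G => x ∈ Subgroup.zpowers (b ^ m)) ⊆
        Finset.univ.filter fun x : G => x ^ p = 1 := by
      intro x hx
      rw [Finset.mem_filter] at hx ⊢
      refine ⟨hx.1, ?_⟩
      rw [← h1]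
      exact orderOf_dvd_iff_pow_eq_one.1 (orderOf_dvd_of_mem_zpowers hx.2)
    have h6 : (Finset.univ.filter fun x : G => x ∈ Subgroup.zpowers (b ^ m)).card = p := by
      rw [← h1, ← Nat.card_zpowers, ← Fintype.card_subtype, ← Nat.card_eq_fintype_card]
    have h7 := Finset.eq_of_subset_of_card_le h5 (by rw [h6]; exact h4)
    have h8 : a ∈ Finset.univ.filter fun x : G => x ^ p = 1 := by
      rw [Finset.mem_filter, ← ha]
      exact ⟨Finset.mem_univ _, pow_orderOf_eq_one a⟩
    rw [← h7, Finset.mem_filter] at h8
    exact h8.2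
  obtain ⟨j, hj⟩ := (mem_powers_iff_mem_zpowers (x := b ^ m)).2 h3
  exact ⟨m * j, by rw [pow_mul]; exact hj⟩

theorem field_kill {p : ℕ} [Fact p.Prime] (hp : 3 ≤ p) {K : Type*} [Field K] [Finite K] (hpK : (p : K) ≠ 0)
    (θ : K ≃+* K) (hθ : orderOf θ = p) : ∃ u : Kˣ, ∀ k : ℕ, ((u : K) / θ u) ^ p ^ k ≠ 1 := by
  classical
  have hpp : p.Prime := Fact.out
  by_contra hcon
  push Not at hcon
  have _ := Fintype.ofFinite K
  have hfin : Finite (K ≃+* K) := DFunLike.finite _
  let H : Subgroup (K ≃+* K) := Subgroup.zpowers θ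
  have hHf : Finite H := Subtype.finite
  have _ : Fintype H := Fintype.ofFinite _
  have hfaith : FaithfulSMul H K := ⟨fun {a b} h => Subtype.ext (RingEquiv.ext h)⟩
  have h1 := FixedPoints.finrank_eq_card H K
  have h2 : Fintype.card H = p := by
    rw [← Nat.card_eq_fintype_card, Nat.card_zpowers, hθ]
  rw [h2] at h1
  have h3 : Nat.card K = Nat.card (FixedPoints.subfield H K) ^ p := by
    rw [← h1]
    exact Module.natCard_eq_pow_finrank
  set q := Nat.card (FixedPoints.subfield H K) with hq
  have hq2 : 2 ≤ q := Finite.one_lt_card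
  -- the homomorphism `u ↦ u / θ u`
  let f : Kˣ →* Kˣ :=
    { toFun := fun u => u / Units.map (θ : K →* K) u
      map_one' := by simp
      map_mul' := fun a b => by
        rw [map_mul, mul_div_mul_comm] }
  have hf : ∀ u : Kˣ, ((f u : Kˣ) : K) = (u : K) / θ u := fun u => by
    change ((u / Units.map (θ : K →* K) u : Kˣ) : K) = _
    rw [Units.val_div_eq_div_val]
    rfl
  have hp1 : IsPGroup p f.range := by
    rintro ⟨_, u, rfl⟩
    obtain ⟨k, hk⟩ := hcon u
    refine ⟨k, Subtype.ext (Units.ext ?_)⟩
    change ((f u : Kˣ) : K) ^ p ^ k = 1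
    rw [hf]
    exact hk
  obtain ⟨b, hb⟩ := hp1.exists_card_eq
  have hker : Nat.card f.ker = q - 1 := by
    have e : f.ker ≃ (FixedPoints.subfield H K)ˣ :=
      { toFun := fun u => Units.mk0 ⟨(u : Kˣ), by
            have hu : ((f u.1 : Kˣ) : K) = 1 := by
              rw [MonoidHom.mem_ker.1 u.2]
              rfl
            rw [hf, div_eq_one_iff_eq (by simp)] at hu
            have hz : ∀ τ : K ≃+* K, τ ∈ Subgroup.zpowers θ → τ ((u : Kˣ) : K) = ((u : Kˣ) : K) := by
              intro τ hτ
              obtain ⟨j, rfl⟩ := (mem_powers_iff_mem_zpowers (x := θ)).2 hτ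
              induction j with
              | zero => rfl
              | succ j ih =>
                beta_reduce
                rw [pow_succ]
                change (θ ^ j) (θ _) = _
                rw [← hu]
                exact ih (Subgroup.npow_mem_zpowers θ j)
            intro τ
            exact hz τ.1 τ.2⟩ (by
              intro h
              exact (u : Kˣ).ne_zero (congrArg Subtype.val h))
        invFun := fun w => ⟨Units.mk0 ((w : FixedPoints.subfield H K) : K) (by
            intro h
            exact w.ne_zero (Subtype.ext h)), by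
          rw [MonoidHom.mem_ker]
          apply Units.ext
          rw [hf, Units.val_mk0, Units.val_one]
          have h4 : θ ((w : FixedPoints.subfield H K) : K) = ((w : FixedPoints.subfield H K) : K) :=
            (w : FixedPoints.subfield H K).2 ⟨θ, Subgroup.mem_zpowers θ⟩
          rw [h4]
          exact div_self (fun h => w.ne_zero (Subtype.ext h))⟩
        left_inv := fun u => by
          apply Subtype.ext
          apply Units.ext
          rfl
        right_inv := fun w => by
          apply Units.ext
          apply Subtype.ext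
          rfl }
    have _ := Fintype.ofFinite (FixedPoints.subfield H K)
    rw [Nat.card_congr e, Nat.card_units]
  have hcard : Nat.card f.ker * Nat.card f.range = Nat.card Kˣ := by
    rw [← Subgroup.index_ker, Subgroup.card_mul_index]
  rw [hker, hb, Nat.card_units, h3] at hcard
  exact no_nat hpp hp hq2 hcard

end Cfsg.Agent.H206.FieldKill
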