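import Mathlib
import Cfsg.Agent.H206.OrthBal
import Cfsg.Agent.H208.Dict
set_option linter.all false

/-!
# Field automorphisms of `POmega F Q` of prime order: `O_{p'}(C_A(x))` (helper206)

* `center_eq_bot` : `POmega F Q` has trivial centre;
* `iff_of_conj` : for `x` conjugate to the standard field automorphism of `σ` of prime order `p` (not the
  characteristic), `O_{p'}(C_A(x)) ≠ 1` iff `p` does not divide the number of fixed points of `x`.
-/

set_option autoImplicit false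

namespace Cfsg.Agent.H206.OrthFin

open QuadraticMap Cfsg.Agent.LieClassical.OrthCore Cfsg.Agent.LieClassical.OrthTrans
  Cfsg.Agent.LieClassical.OrthSimple Cfsg.Agent.ClassicalGeometry.OrthSemi
  Cfsg.Agent.ClassicalGeometry.OrthAut1 Cfsg.Agent.AutOrth.Main
open Cfsg.Agent.H966.Frob Cfsg.Agent.H208.Ext Cfsg.Agent.H206.OrthExt Cfsg.Agent.H206.Balance
  Cfsg.Agent.H206.OrthBal Cfsg.Agent.H208.Dict

variable {F : Type*} [Field F] {κ : Type} [Fintype κ] [DecidableEq κ] {σ : F ≃+* F}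
  {Q : QuadraticForm F (κ → F)} {Q₀ : QuadraticForm (fix σ) (κ → fix σ)}

theorem center_P (hG : Good Q) : Subgroup.center (P Q) = ⊥ := by
  have hs := good_isSimpleGroup hG
  rcases hs.eq_bot_or_eq_top_of_normal (Subgroup.center (P Q)) inferInstance with h | h
  · exact h
  · exfalso
    have h1 : commutator (P Q) = ⊤ := by
      have h2 := commutator_E hG
      rw [commutator_def] at h2 ⊢
      have h3 : (⊤ : Subgroup (P Q)) = (⊤ : Subgroup ↥(E Q)).map (QuotientGroup.mk' (Subgroup.center ↥(E Q))) := by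
        rw [← MonoidHom.range_eq_map, QuotientGroup.range_mk']
      rw [h3, ← Subgroup.map_commutator, h2]
    have h2 : commutator (P Q) = ⊥ := by
      rw [commutator_eq_bot_iff_center_eq_top]
      exact h
    rw [h2] at h1
    have := hs.toNontrivial
    exact bot_ne_top h1

theorem center_eq_bot (hG : Good Q) : Subgroup.center (Cfsg.POmega F ⇑Q) = ⊥ := by
  rw [eq_bot_iff]
  intro z hz
  have h1 : pe hG z ∈ Subgroup.center (P Q) := by
    rw [Subgroup.mem_center_iff] at hz ⊢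
    intro g
    obtain ⟨g, rfl⟩ := (pe hG).surjective g
    rw [← map_mul, hz, map_mul]
  rw [center_P hG, Subgroup.mem_bot] at h1
  rw [Subgroup.mem_bot]
  exact (pe hG).injective (h1.trans (map_one _).symm)

/-- Conjugates of the standard field automorphism are good. -/
theorem good_of_conj [Finite F] (hQ : ∀ x, Q (inc (fix σ) x) = (Q₀ x : F)) (hG : Good Q) (hG₀ : Good Q₀)
    (hσQ : ∀ v, Q (frob κ σ v) = σ (Q v)) {p : ℕ} (hp : p.Prime) (hpF : (p : F) ≠ 0) (hσ : orderOf σ = p)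
    (hrange : ∀ y : MulAut (P Q), (∀ k : ↥(E Q₀), y (psi hQ k) = psi hQ k) → y ∈ (Psi Q).range)
    {x α φ : MulAut (Cfsg.POmega F ⇑Q)} (hφ : tr hG φ = Psi Q (fr hσQ)) (hx : x = α * φ * α⁻¹) :
    Balance.Good p x := by
  have h1 := Good_congr (pe hG).symm (good_frob hQ hG hG₀ hσQ hp hpF hσ hrange)
  have h2 : MulAut.congr (pe hG).symm (Psi Q (fr hσQ)) = φ := by
    rw [← hφ]
    ext k
    change (pe hG).symm (pe hG (φ ((pe hG).symm ((pe hG).symm.symm k)))) = _
    simp
  rw [h2] at h1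
  rw [hx]
  exact h1.conj α

/-- **The equivalence for field automorphisms.** -/
theorem iff_of_conj [Finite F] (hQ : ∀ x, Q (inc (fix σ) x) = (Q₀ x : F)) (hG : Good Q) (hG₀ : Good Q₀)
    (hσQ : ∀ v, Q (frob κ σ v) = σ (Q v)) {p : ℕ} [Fact p.Prime] (hpF : (p : F) ≠ 0) (hσ : orderOf σ = p)
    (hrange : ∀ y : MulAut (P Q), (∀ k : ↥(E Q₀), y (psi hQ k) = psi hQ k) → y ∈ (Psi Q).range)
    {x α φ : MulAut (Cfsg.POmega F ⇑Q)} (hφ : tr hG φ = Psi Q (fr hσQ)) (hx : x = α * φ * α⁻¹) (hord : orderOf x = p)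
    {A : Subgroup (MulAut (Cfsg.POmega F ⇑Q))} (hinn : ∀ k : Cfsg.POmega F ⇑Q, MulAut.conj k ∈ A) :
    Cfsg.pPrimeCore p ↥(A ⊓ Subgroup.centralizer {x}) ≠ ⊥ ↔
      Nat.Coprime p (Nat.card ↥(MonoidHom.eqLocus x.toMonoidHom (MonoidHom.id (Cfsg.POmega F ⇑Q)))) := by
  have hfinE : Finite ↥(E Q) := by
    have : Finite ((κ → F) ≃ₗ[F] (κ → F)) :=
      Finite.of_injective (fun g : (κ → F) ≃ₗ[F] (κ → F) => (g : (κ → F) → (κ → F))) DFunLike.coe_injective
    exact Subtype.finite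
  have hfinP : Finite (P Q) := Quotient.finite _
  have hfin : Finite (Cfsg.POmega F ⇑Q) := Finite.of_equiv _ (pe hG).symm.toEquiv
  exact Balance.main (center_eq_bot hG) hinn hord
    (good_of_conj hQ hG hG₀ hσQ (Fact.out : p.Prime) hpF hσ hrange hφ hx)

/-- The order of the field automorphism. -/
theorem pow_eq_one_of_pow (hG : Good Q) {M : Gam Q} {c : F} (hM : IsSS Q σ c M.1) {p : ℕ} (h : Psi Q M ^ p = 1) :
    σ ^ p = 1 := by
  rw [← map_pow, ← MonoidHom.mem_ker, ker_Psi hG] at h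
  obtain ⟨a, ha⟩ := h
  have h1 := H208.Frame.isSS_pow hM p
  obtain ⟨x, hx0, -⟩ := hG.sing
  ext b
  have h2 := h1.smul b x
  have h3 : ∀ v, (M.1 ^ p) v = (a : F) • v := by
    intro v
    have h4 : ((M ^ p : Gam Q) : Equiv.Perm (κ → F)) v = ((scal Q a : Gam Q) : Equiv.Perm (κ → F)) v := by rw [ha]
    exact h4
  rw [h3, h3, smul_comm] at h2
  have h4 : (b - (σ ^ p) b) • ((a : F) • x) = 0 := by rw [sub_smul, h2, sub_self]
  rcases smul_eq_zero.1 h4 with h5 | h5
  · exact (sub_eq_zero.1 h5).symm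
  · exfalso
    rcases smul_eq_zero.1 h5 with h6 | h6
    · exact a.ne_zero h6
    · exact hx0 h6

end Cfsg.Agent.H206.OrthFin
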